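import Mathlib.CategoryTheory.Abelian.Ext
import Mathlib.CategoryTheory.Abelian.Projective.Ext
import Mathlib.Algebra.Homology.ShortComplex.ModuleCat
import Mathlib.Algebra.Homology.DerivedCategory.Ext.Linear

/-!
# The old `Ext` (left derived functors) agrees with `Abelian.Ext`

`oldExtEquiv R X Y n : ((Ext R C n).obj (op X)).obj Y ≃ₗ[R] Abelian.Ext X Y n`, natural in both
variables (`oldExtEquiv_map`, `oldExtEquiv_map_app`).
-/

universe w v u t

open CategoryTheory Limits Opposite

namespace Groth.Agent.OldExt

variable {R : Type t} [CommRing R] {C : Type u} [Category.{v} C] [Abelian C] [Linear R C]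

section Cycles

variable {X : C} (P : ProjectiveResolution X) (Y : C) (n : ℕ)

variable (R) in
/-- The cochain complex `Hom(P, Y)`. -/
noncomputable abbrev homCx : CochainComplex (ModuleCat.{v} R) ℕ := P.complex.linearYonedaObj R Y

variable [HasExt.{w} C]

variable (R) in
/-- The cocycle underlying an element of the cycles of `Hom(P, Y)`. -/
noncomputable def cocycle (z : (homCx R P Y).cycles n) : P.complex.X n ⟶ Y :=
  ((homCx R P Y).iCycles n).hom z

omit [HasExt.{w} C] in
theorem cycles_d_comp (z : (homCx R P Y).cycles n) :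
    P.complex.d (n + 1) n ≫ cocycle R P Y n z = 0 :=
  ConcreteCategory.congr_hom ((homCx R P Y).iCycles_d n (n + 1)) z

omit [HasExt.{w} C] in
theorem cocycle_add (a b : (homCx R P Y).cycles n) :
    cocycle R P Y n (a + b) = cocycle R P Y n a + cocycle R P Y n b :=
  map_add ((homCx R P Y).iCycles n).hom a b

omit [HasExt.{w} C] in
theorem cocycle_smul (r : R) (a : (homCx R P Y).cycles n) :
    cocycle R P Y n (r • a) = r • cocycle R P Y n a :=
  map_smul ((homCx R P Y).iCycles n).hom r a

theorem smul_extMk (r : R) (f : P.complex.X n ⟶ Y) (hf : P.complex.d (n + 1) n ≫ f = 0) :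
    r • P.extMk f (n + 1) rfl hf =
      P.extMk (r • f) (n + 1) rfl (by rw [Linear.comp_smul, hf, smul_zero]) := by
  have h := P.extMk_comp_mk₀ f (n + 1) rfl hf (r • 𝟙 Y)
  simp only [Abelian.Ext.mk₀_smul, Abelian.Ext.comp_smul, Abelian.Ext.comp_mk₀_id, Linear.comp_smul,
    Category.comp_id] at h
  exact h

variable (R) in
/-- A cocycle gives an extension class. -/
noncomputable def cyclesToExt : (homCx R P Y).cycles n →ₗ[R] Abelian.Ext X Y n where
  toFun z := P.extMk (cocycle R P Y n z) (n + 1) rfl (cycles_d_comp P Y n z)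
  map_add' a b := by
    simp only [cocycle_add, P.add_extMk]
  map_smul' r a := by
    rw [RingHom.id_apply, smul_extMk]
    simp only [cocycle_smul]

theorem cyclesToExt_surjective : Function.Surjective (cyclesToExt R P Y n) := fun e => by
  obtain ⟨f, hf, rfl⟩ := P.extMk_surjective e (n + 1) rfl
  obtain ⟨z, hz⟩ : ∃ z, ((homCx R P Y).iCycles n).hom z = f := by
    have hex : (ShortComplex.mk ((homCx R P Y).iCycles n) ((homCx R P Y).d n (n + 1))
        ((homCx R P Y).iCycles_d n (n + 1))).Exact :=
      ShortComplex.exact_of_f_is_kernel _ ((homCx R P Y).cyclesIsKernel n (n + 1) (by simp))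
    exact (ShortComplex.moduleCat_exact_iff _).mp hex f hf
  refine ⟨z, ?_⟩
  have hz' : cocycle R P Y n z = f := hz
  simp [cyclesToExt, hz']

theorem ker_homologyπ :
    LinearMap.ker ((homCx R P Y).homologyπ n).hom = LinearMap.ker (cyclesToExt R P Y n) := by
  let L := homCx R P Y
  have hex : (ShortComplex.mk (L.toCycles ((ComplexShape.up ℕ).prev n) n) (L.homologyπ n)
      (L.toCycles_comp_homologyπ _ n)).Exact :=
    ShortComplex.exact_of_g_is_cokernel _ (L.homologyIsCokernel _ n rfl)
  have hinj : Function.Injective (L.iCycles n).hom :=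
    (ModuleCat.mono_iff_injective _).mp inferInstance
  ext z
  simp only [LinearMap.mem_ker, cyclesToExt, LinearMap.coe_mk, AddHom.coe_mk]
  refine ⟨fun hz => ?_, fun hz => ?_⟩
  · obtain ⟨g, rfl⟩ := (ShortComplex.moduleCat_exact_iff _).mp hex z hz
    rcases n with - | n
    · have h0 : L.d ((ComplexShape.up ℕ).prev 0) 0 = 0 := L.shape _ _ (by simp)
      have : (L.iCycles 0).hom ((L.toCycles ((ComplexShape.up ℕ).prev 0) 0).hom g) = 0 := by
        rw [← LinearMap.comp_apply, ← ModuleCat.hom_comp, L.toCycles_i, h0]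
        rfl
      have h' : cocycle R P Y 0 ((L.toCycles ((ComplexShape.up ℕ).prev 0) 0).hom g) = 0 := this
      simp only [L] at h' ⊢
      simp only [h']
      exact P.extMk_zero _ _
    · refine (P.extMk_eq_zero_iff _ _ _ _ _ rfl).mpr ?_
      have : (ComplexShape.up ℕ).prev (n + 1) = n := by simp
      revert g
      rw [this]
      exact fun g _ => ⟨g, (ConcreteCategory.congr_hom (L.toCycles_i n (n + 1)) g).symm⟩
  · rcases n with - | n
    · have h1 := congrArg P.extEquivCohomologyClass hz
      rw [P.extEquivCohomologyClass_extMk, P.extEquivCohomologyClass_zero,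
        CochainComplex.HomComplex.CohomologyClass.mk_eq_zero_iff,
        CochainComplex.HomComplex.Cocycle.toSingleMk_mem_coboundaries_iff _ _ _ _ _ 1 (by simp)] at h1
      obtain ⟨g, hg⟩ := h1
      have hzero : IsZero (P.cochainComplex.X 1) :=
        CochainComplex.isZero_of_isStrictlyLE _ 0 _ (by omega)
      rw [hzero.eq_of_src g 0, comp_zero] at hg
      have : (L.iCycles 0).hom z = 0 := by
        have hg' := congrArg ((P.cochainComplexXIso _ 0 (by simp)).inv ≫ ·) hg
        simp only [comp_zero] at hg'
        erw [Iso.inv_hom_id_assoc] at hg'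
        exact hg'.symm
      rw [hinj (this.trans (map_zero _).symm), map_zero]
    · obtain ⟨g, hg⟩ := (P.extMk_eq_zero_iff _ _ _ _ _ rfl).mp hz
      let g' : L.X n := g
      have : z = (L.toCycles n (n + 1)).hom g' :=
        hinj (Eq.trans hg.symm (ConcreteCategory.congr_hom (L.toCycles_i n (n + 1)) g').symm)
      rw [this]
      exact ConcreteCategory.congr_hom (L.toCycles_comp_homologyπ n (n + 1)) g'

omit [HasExt.{w} C] in
theorem homologyπ_surjective : Function.Surjective ((homCx R P Y).homologyπ n).hom :=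
  (ModuleCat.epi_iff_surjective _).mp inferInstance

variable (R) in
/-- `Hⁿ(Hom(P, Y)) ≃ Extⁿ(X, Y)`. -/
noncomputable def homologyEquivExt : (homCx R P Y).homology n ≃ₗ[R] Abelian.Ext X Y n :=
  ((LinearMap.quotKerEquivOfSurjective _ (homologyπ_surjective P Y n)).symm.trans
    (Submodule.quotEquivOfEq _ _ (ker_homologyπ P Y n))).trans
    (LinearMap.quotKerEquivOfSurjective _ (cyclesToExt_surjective P Y n))

theorem homologyEquivExt_π (z : (homCx R P Y).cycles n) :
    homologyEquivExt R P Y n (((homCx R P Y).homologyπ n).hom z) = cyclesToExt R P Y n z := by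
  simp [homologyEquivExt]

end Cycles

section Naturality

variable {X X' : C} (P : ProjectiveResolution X) (P' : ProjectiveResolution X') (n : ℕ)

variable (R) in
/-- Precomposition with a map of resolutions. -/
noncomputable def homCxPre (φ : P'.complex ⟶ P.complex) (Y : C) : homCx R P Y ⟶ homCx R P' Y :=
  (HomologicalComplex.unopFunctor (ModuleCat.{v} R) (ComplexShape.down ℕ)).map
    ((((linearYoneda R C).obj Y).rightOp.mapHomologicalComplex _).map φ).op

variable (R) in
/-- Postcomposition with a map of modules. -/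
noncomputable def homCxPost {Y Y' : C} (g : Y ⟶ Y') : homCx R P Y ⟶ homCx R P Y' :=
  (HomologicalComplex.unopFunctor (ModuleCat.{v} R) (ComplexShape.down ℕ)).map
    ((NatTrans.mapHomologicalComplex (NatTrans.rightOp ((linearYoneda R C).map g)) _).app P.complex).op

theorem homologyUnop_naturality {K L : ChainComplex (ModuleCat.{v} R)ᵒᵖ ℕ} (φ : K ⟶ L) :
    HomologicalComplex.homologyMap
        ((HomologicalComplex.unopFunctor (ModuleCat.{v} R) (ComplexShape.down ℕ)).map φ.op) n ≫
        (HomologicalComplex.homologyUnop K n).hom =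
      (HomologicalComplex.homologyUnop L n).hom ≫ (HomologicalComplex.homologyMap φ n).unop := by
  have h := HomologicalComplex.homologyOp_hom_naturality
    ((HomologicalComplex.unopFunctor (ModuleCat.{v} R) (ComplexShape.down ℕ)).map φ.op) n
  exact (congrArg Quiver.Hom.unop h).symm

theorem iso_square {D : Type*} [Category D] {A A' B B' K K' : D} {a : A ⟶ A'} {i : A ⟶ B}
    {i' : A' ⟶ B'} {h : K ≅ B} {h' : K' ≅ B'} {m : B ⟶ B'} {μ : K ⟶ K'}
    (h1 : a ≫ i' = i ≫ m) (h2 : μ ≫ h'.hom = h.hom ≫ m) :
    a ≫ i' ≫ h'.inv = (i ≫ h.inv) ≫ μ := by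
  rw [← cancel_mono h'.hom, Category.assoc, Category.assoc, Iso.inv_hom_id, Category.comp_id, h1,
    Category.assoc, Category.assoc, h2, Iso.inv_hom_id_assoc]

variable [EnoughProjectives C]

theorem isoExt_naturality_left (f : X' ⟶ X) (φ : P'.complex ⟶ P.complex)
    (hφ : φ.f 0 ≫ P.π.f 0 = P'.π.f 0 ≫ f) (Y : C) :
    ((Ext R C n).map f.op).app Y ≫ (P'.isoExt n Y).hom =
      (P.isoExt n Y).hom ≫ HomologicalComplex.homologyMap (homCxPre R P P' φ Y) n :=
  iso_square
    (congrArg Quiver.Hom.unop (ProjectiveResolution.isoLeftDerivedObj_inv_naturality f P' P φ hφ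
      ((linearYoneda R C).obj Y).rightOp n))
    (homologyUnop_naturality n ((((linearYoneda R C).obj Y).rightOp.mapHomologicalComplex _).map φ))

theorem isoExt_naturality_right {Y Y' : C} (g : Y ⟶ Y') :
    ((Ext R C n).obj (op X)).map g ≫ (P.isoExt n Y').hom =
      (P.isoExt n Y).hom ≫ HomologicalComplex.homologyMap (homCxPost R P g) n := by
  have h : (P.isoLeftDerivedObj ((linearYoneda R C).obj Y').rightOp n).inv ≫
      (NatTrans.leftDerived (NatTrans.rightOp ((linearYoneda R C).map g)) n).app X =
      (HomologicalComplex.homologyFunctor _ _ n).map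
        ((NatTrans.mapHomologicalComplex (NatTrans.rightOp ((linearYoneda R C).map g)) _).app
          P.complex) ≫ (P.isoLeftDerivedObj ((linearYoneda R C).obj Y).rightOp n).inv := by
    rw [ProjectiveResolution.leftDerived_app_eq _ P n]
    simp
  exact iso_square (congrArg Quiver.Hom.unop h)
    (homologyUnop_naturality n
      ((NatTrans.mapHomologicalComplex (NatTrans.rightOp ((linearYoneda R C).map g)) _).app P.complex))

variable [HasExt.{w} C]

omit [EnoughProjectives C] in
theorem homologyEquivExt_pre {f : X' ⟶ X} (φ : ProjectiveResolution.Hom P' P f) (Y : C)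
    (x : (homCx R P Y).homology n) :
    homologyEquivExt R P' Y n ((HomologicalComplex.homologyMap (homCxPre R P P' φ.hom Y) n).hom x) =
      (Abelian.Ext.mk₀ f).comp (homologyEquivExt R P Y n x) (zero_add n) := by
  obtain ⟨z, rfl⟩ := homologyπ_surjective (R := R) P Y n x
  rw [← LinearMap.comp_apply, ← ModuleCat.hom_comp, HomologicalComplex.homologyπ_naturality,
    ModuleCat.hom_comp, LinearMap.comp_apply, homologyEquivExt_π, homologyEquivExt_π]
  simp only [cyclesToExt, LinearMap.coe_mk, AddHom.coe_mk]
  rw [ProjectiveResolution.mk₀_comp_extMk _ _ _ _ φ]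
  congr 1
  exact ConcreteCategory.congr_hom (HomologicalComplex.cyclesMap_i (homCxPre R P P' φ.hom Y) n) z

omit [EnoughProjectives C] in
theorem homologyEquivExt_post {Y Y' : C} (g : Y ⟶ Y') (x : (homCx R P Y).homology n) :
    homologyEquivExt R P Y' n ((HomologicalComplex.homologyMap (homCxPost R P g) n).hom x) =
      (homologyEquivExt R P Y n x).comp (Abelian.Ext.mk₀ g) (add_zero n) := by
  obtain ⟨z, rfl⟩ := homologyπ_surjective (R := R) P Y n x
  rw [← LinearMap.comp_apply, ← ModuleCat.hom_comp, HomologicalComplex.homologyπ_naturality,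
    ModuleCat.hom_comp, LinearMap.comp_apply, homologyEquivExt_π, homologyEquivExt_π]
  simp only [cyclesToExt, LinearMap.coe_mk, AddHom.coe_mk]
  rw [ProjectiveResolution.extMk_comp_mk₀]
  congr 1
  exact ConcreteCategory.congr_hom (HomologicalComplex.cyclesMap_i (homCxPost R P g) n) z

end Naturality

section Main

variable [EnoughProjectives C] [HasExt.{w} C]

variable (R) in
/-- Old `Ext` agrees with `Abelian.Ext`. -/
noncomputable def oldExtEquiv (X Y : C) (n : ℕ) :
    ((Ext R C n).obj (op X)).obj Y ≃ₗ[R] Abelian.Ext X Y n :=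
  ((projectiveResolution X).isoExt n Y).toLinearEquiv.trans (homologyEquivExt R (projectiveResolution X) Y n)

theorem oldExtEquiv_map {X X' : C} (f : X' ⟶ X) (Y : C) (n : ℕ)
    (x : ((Ext R C n).obj (op X)).obj Y) :
    oldExtEquiv R X' Y n ((((Ext R C n).map f.op).app Y).hom x) =
      (Abelian.Ext.mk₀ f).comp (oldExtEquiv R X Y n x) (zero_add n) := by
  let P := projectiveResolution X
  let P' := projectiveResolution X'
  let φ : ProjectiveResolution.Hom P' P f :=
    ⟨ProjectiveResolution.lift f P' P, (ProjectiveResolution.lift_commutes_zero f P' P).trans (by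
      rw [ChainComplex.single₀_map_f_zero]; rfl)⟩
  have h := isoExt_naturality_left (R := R) P P' n f φ.hom (ProjectiveResolution.lift_commutes_zero f P' P) Y
  have h2 := homologyEquivExt_pre P P' n φ Y ((P.isoExt n Y).hom.hom x)
  rw [← LinearMap.comp_apply, ← ModuleCat.hom_comp, ← h] at h2
  exact h2

theorem oldExtEquiv_map_app {X : C} {Y Y' : C} (g : Y ⟶ Y') (n : ℕ)
    (x : ((Ext R C n).obj (op X)).obj Y) :
    oldExtEquiv R X Y' n ((((Ext R C n).obj (op X)).map g).hom x) =
      (oldExtEquiv R X Y n x).comp (Abelian.Ext.mk₀ g) (add_zero n) := by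
  let P := projectiveResolution X
  have h := isoExt_naturality_right (R := R) P n g
  have h2 := homologyEquivExt_post P n g ((P.isoExt n Y).hom.hom x)
  rw [← LinearMap.comp_apply, ← ModuleCat.hom_comp, ← h] at h2
  exact h2

end Main

end Groth.Agent.OldExt
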